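import Cfsg.Agent.H0.Cover
import Cfsg.Agent.H0.MM12.D
set_option maxRecDepth 100000
set_option Elab.async false
namespace H0.VM122
open H0 BN 
noncomputable def n0 : Net := (Net.cons (nat_lit 16) (nat_lit 0x300) (Net.cons (nat_lit 8) (nat_lit 0xc000c0) (Net.cons (nat_lit 4) (nat_lit 0xc000c0f) (Net.cons (nat_lit 2) (nat_lit 0x3000033) (Net.cons (nat_lit 1) (nat_lit 0x4400) (Net.cons (nat_lit 4) (nat_lit 0xc000000) (Net.cons (nat_lit 8) (nat_lit 0xc000c0) (Net.cons (nat_lit 16) (nat_lit 0x300) Net.nil))))))))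
noncomputable def n1 : Net := (Net.cons (nat_lit 16) (nat_lit 0xcf3c) (Net.cons (nat_lit 8) (nat_lit 0xc30030) (Net.cons (nat_lit 4) (nat_lit 0xc000c) (Net.cons (nat_lit 2) (nat_lit 0x3000003) (Net.cons (nat_lit 1) (nat_lit 0x41501010) (Net.cons (nat_lit 4) (nat_lit 0xc) (Net.cons (nat_lit 8) (nat_lit 0xc00000) (Net.cons (nat_lit 16) (nat_lit 0xcfc0) Net.nil))))))))
noncomputable def n2 : Net := (Net.cons (nat_lit 16) (nat_lit 0x3ffc) (Net.cons (nat_lit 8) (nat_lit 0x3f000c) (Net.cons (nat_lit 4) (nat_lit 0xc0c) (Net.cons (nat_lit 2) (nat_lit 0x30003) (Net.cons (nat_lit 1) (nat_lit 0x10540410) (Net.cons (nat_lit 4) (nat_lit 0xc) (Net.cons (nat_lit 8) (nat_lit 0xc000c) (Net.cons (nat_lit 16) (nat_lit 0x3f00) Net.nil))))))))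
noncomputable def n3 : Net := (Net.cons (nat_lit 16) (nat_lit 0x300) (Net.cons (nat_lit 8) (nat_lit 0x30000) (Net.cons (nat_lit 4) (nat_lit 0xc00) (Net.cons (nat_lit 2) (nat_lit 0x33) (Net.cons (nat_lit 1) (nat_lit 0x1551000) (Net.cons (nat_lit 16) (nat_lit 0x300) Net.nil))))))
noncomputable def n4 : Net := (Net.cons (nat_lit 16) (nat_lit 0xfff0) (Net.cons (nat_lit 8) (nat_lit 0x3c0000) (Net.cons (nat_lit 4) (nat_lit 0xf0000) (Net.cons (nat_lit 2) (nat_lit 0x3300033) (Net.cons (nat_lit 1) (nat_lit 0x40100014) (Net.cons (nat_lit 8) (nat_lit 0xf00000) (Net.cons (nat_lit 16) (nat_lit 0xff00) Net.nil)))))))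
noncomputable def n5 : Net := (Net.cons (nat_lit 16) (nat_lit 0xff00) (Net.cons (nat_lit 8) (nat_lit 0xc30000) (Net.cons (nat_lit 4) (nat_lit 0x30c0000) (Net.cons (nat_lit 2) (nat_lit 0x3030033) (Net.cons (nat_lit 1) (nat_lit 0x44000041) (Net.cons (nat_lit 16) (nat_lit 0xfff0) Net.nil))))))
noncomputable def n6 : Net := (Net.cons (nat_lit 16) (nat_lit 0x3300) (Net.cons (nat_lit 8) (nat_lit 0xf30000) (Net.cons (nat_lit 4) (nat_lit 0xc0000) (Net.cons (nat_lit 2) (nat_lit 0x30300003) (Net.cons (nat_lit 1) (nat_lit 0x1010000) (Net.cons (nat_lit 4) (nat_lit 0xc0000) (Net.cons (nat_lit 8) (nat_lit 0xf00000) (Net.cons (nat_lit 16) (nat_lit 0x3300) Net.nil))))))))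
noncomputable def n7 : Net := (Net.cons (nat_lit 16) (nat_lit 0x3000) (Net.cons (nat_lit 8) (nat_lit 0x3000c0) (Net.cons (nat_lit 4) (nat_lit 0xc0c00) (Net.cons (nat_lit 2) (nat_lit 0x300033) (Net.cons (nat_lit 1) (nat_lit 0x10050100) (Net.cons (nat_lit 4) (nat_lit 0xc0000) (Net.cons (nat_lit 8) (nat_lit 0x3000c0) (Net.cons (nat_lit 16) (nat_lit 0x3000) Net.nil))))))))
noncomputable def n8 : Net := (Net.cons (nat_lit 16) (nat_lit 0xcc3) (Net.cons (nat_lit 8) (nat_lit 0x300003) (Net.cons (nat_lit 4) (nat_lit 0xc0c0303) (Net.cons (nat_lit 2) (nat_lit 0x30033003) (Net.cons (nat_lit 1) (nat_lit 0x40044144) (Net.cons (nat_lit 4) (nat_lit 0xc00000c) (Net.cons (nat_lit 8) (nat_lit 0x3000f0) (Net.cons (nat_lit 16) (nat_lit 0xc0c) Net.nil))))))))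
noncomputable def n9 : Net := (Net.cons (nat_lit 16) (nat_lit 0x300) (Net.cons (nat_lit 8) (nat_lit 0x300c0) (Net.cons (nat_lit 4) (nat_lit 0xc00) (Net.cons (nat_lit 2) (nat_lit 0x300030) (Net.cons (nat_lit 1) (nat_lit 0x1055455) (Net.cons (nat_lit 8) (nat_lit 0xc0) (Net.cons (nat_lit 16) (nat_lit 0x300) Net.nil)))))))
noncomputable def n10 : Net := (Net.cons (nat_lit 1) (nat_lit 0x555555) Net.nil)
noncomputable def nl : List Net := [n0, n1, n2, n3, n4, n5, n6, n7, n8, n9, n10]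
theorem nl_ok : allL (Net.ok (nat_lit 32)) nl = true := by decide +kernel
noncomputable def R : Rep := mkRep (nat_lit 5) (nat_lit 32) nl (by decide +kernel) nl_ok
def defs : List (List ℕ) := []
theorem R_ge : ∀ x, 11 + defs.length ≤ x → R.p x = 1 := fun _ hx => mkRep_ge hx
def J : List ℕ := [0, 0, 0, 0, 0, 0, 0, 0, 1, 0, 1, 0, 0, 0, 0, 0, 0, 0, 1, 1, 1, 0, 0, 0, 0, 0, 0, 1, 0, 1, 1, 1, 1, 1, 1, 0, 1, 0, 1, 0, 1, 1, 1, 1, 1, 1, 1, 0, 0, 0, 0, 1, 0, 1, 1, 0, 1]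
def c : List ℕ := [0, 0, 0, 0, 0, 0, 0, 0, 1, 0, 0, 0, 0, 0, 0, 0, 0, 0, 0, 0, 0, 0, 0, 0, 0, 0, 0, 0, 0, 0, 0, 0, 0, 0, 0, 0, 0, 0, 0, 0, 0, 0, 0, 0, 0, 0, 0, 0, 0, 0, 0, 0, 0, 0, 0, 0, 0]
def E : List (List ℕ × List ℕ) := covE 10 H0.MM12.B J
theorem c0 : pairsW R 0 5 ((E.drop 0).take 67) = true := by decide +kernel
theorem c1 : eqW R 0 R.lg [10, 10] [] = true := by decide +kernel
theorem c2 : mapsP R [10] [0] [1] = true := by decide +kernel
end H0.VM122
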